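import Cfsg.Agent.SUFive.SympUnit
import Cfsg.Agent.Invol.RankOneQuot

/-!
An overgroup in which `J` is the only involution of its centraliser and odd normal subgroups of the
centraliser are scalar normalises `5^{1+2}` (after `MaxSub.CSixFive.Main`, without `two`).
-/

set_option autoImplicit false
set_option linter.unusedSectionVars false
set_option linter.style.haveILetI false

namespace Cfsg.Agent.SUFive.Symp

open Matrix Cfsg.Geo
open scoped MatrixGroups Fin.CommRing Fin.NatCast commutatorElement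

universe u

variable {F : Type u} [Field F] {q : ℕ}

namespace Root5

variable (R : Root5 F)

theorem el_inv (c a b : Fin 5) : (R.el c a b)⁻¹ = R.el (-c - a * b) (-a) (-b) := by
  refine inv_eq_of_mul_eq_one_right ?_
  rw [el_mul, ← el_zero]
  congr 1 <;> ring

theorem gJ_mul_el (c a b : Fin 5) : gJ * R.el c a b = R.el c (-a) (-b) * gJ := by
  refine Units.ext (Matrix.ext fun i j => ?_)
  simp only [Units.val_mul, gJ_mul_apply, mul_gJ_apply, el_apply]
  refine if_congr ⟨fun h => by linear_combination -h, fun h => by linear_combination -h⟩ ?_ rfl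
  congr 1; ring

theorem gJ_comm_el (c a b : Fin 5) :
    gJ * R.el c a b * gJ⁻¹ * (R.el c a b)⁻¹ = R.el (-2 * a * b) (-2 * a) (-2 * b) := by
  rw [R.gJ_mul_el, mul_inv_cancel_right, el_inv, el_mul]
  congr 1 <;> ring

theorem val_el_central (c : Fin 5) :
    (R.el c 0 0 : Matrix (Fin 5) (Fin 5) F) = R.e c • 1 := by
  ext i j
  simp [el_apply, Matrix.one_apply]

theorem scalar_eq_el {g : GL (Fin 5) F} (hg : g ∈ specialLinear (Fin 5) F) {c : F}
    (hc : (g : Matrix (Fin 5) (Fin 5) F) = c • 1) : ∃ k, g = R.el k 0 0 := by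
  have h := GeoClasses.mem_specialLinear_iff.1 hg
  rw [hc, det_smul, det_one, mul_one, Fintype.card_fin] at h
  obtain ⟨k, rfl⟩ := R.exists_e h
  exact ⟨k, Units.ext (by rw [hc, R.val_el_central])⟩

theorem det_el (c a b : Fin 5) : R.el c a b ∈ specialLinear (Fin 5) F := by
  rw [el_split]
  exact mul_mem (mul_mem (pow_mem (GeoClasses.mem_specialLinear_iff.2 R.det_gZ) _)
    (pow_mem (GeoClasses.mem_specialLinear_iff.2 R.det_gX) _))
    (pow_mem (GeoClasses.mem_specialLinear_iff.2 det_gA) _)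

/-- An element commuting with `X` and `A` is scalar. -/
theorem scalar_of_commute {g : GL (Fin 5) F} (hX : Commute g R.gX) (hA : Commute g gA) :
    (g : Matrix (Fin 5) (Fin 5) F) = (g : Matrix (Fin 5) (Fin 5) F) 0 0 • 1 := by
  have hd := R.commute_dG_iff.1 hX
  have hs : ∀ i : Fin 5, (g : Matrix (Fin 5) (Fin 5) F) (i + 1) (i + 1) =
      (g : Matrix (Fin 5) (Fin 5) F) i i := by
    intro i
    have h := congrArg (fun x : GL (Fin 5) F => (x : Matrix (Fin 5) (Fin 5) F) (i + 1) i) hA.eq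
    simpa [Units.val_mul, mul_gA_apply, gA_mul_apply] using h
  have hall : ∀ i : Fin 5, (g : Matrix (Fin 5) (Fin 5) F) i i = (g : Matrix (Fin 5) (Fin 5) F) 0 0 := by
    intro i
    have h : ∀ n : ℕ, (g : Matrix (Fin 5) (Fin 5) F) (n : Fin 5) (n : Fin 5) =
        (g : Matrix (Fin 5) (Fin 5) F) 0 0 := by
      intro n
      induction n with
      | zero => simp
      | succ n ih => rw [Nat.cast_succ, hs, ih]
    simpa using h (i : ℕ)
  ext i j
  by_cases hij : i = j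
  · subst hij; simp [hall i]
  · simp [hd i j hij, Matrix.one_apply_ne hij]

/-- Modulo the centre, only `5^{1+2}` itself centralises `X` and `A`. -/
theorem mem_Rs_of_comm {o : GL (Fin 5) F} (ho : o ∈ specialLinear (Fin 5) F) {k l : Fin 5}
    (hX : o * R.gX = R.el k 0 0 * (R.gX * o)) (hA : o * gA = R.el l 0 0 * (gA * o)) :
    o ∈ R.Rs := by
  have hh : ∀ g : GL (Fin 5) F, ∀ c : Fin 5, g * R.el c 0 0 = R.el c 0 0 * g := fun g c =>
    Units.ext (by simp [R.val_el_central])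
  set y := (R.el 0 l (-k))⁻¹ * o with hy
  have hyX : R.el 0 l (-k) * R.gX = R.el k 0 0 * (R.gX * R.el 0 l (-k)) := by
    rw [R.gX_eq, R.el_mul, R.el_mul, R.el_mul]; congr 1 <;> ring
  have hyA : R.el 0 l (-k) * gA = R.el l 0 0 * (gA * R.el 0 l (-k)) := by
    rw [R.gA_eq, R.el_mul, R.el_mul, R.el_mul]; congr 1 <;> ring
  have key : ∀ {g : GL (Fin 5) F} {c : Fin 5}, o * g = R.el c 0 0 * (g * o) →
      R.el 0 l (-k) * g = R.el c 0 0 * (g * R.el 0 l (-k)) → Commute y g := by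
    intro g c h1 h2
    have h3 : (R.el 0 l (-k))⁻¹ * (g * R.el c 0 0) = g * (R.el 0 l (-k))⁻¹ := by
      rw [inv_mul_eq_iff_eq_mul, ← mul_assoc, h2, ← mul_assoc (R.el c 0 0), mul_inv_cancel_right,
        hh g c]
    show y * g = g * y
    rw [hy, mul_assoc, h1, ← mul_assoc (R.el c 0 0), ← hh g c, ← mul_assoc, h3, mul_assoc]
  have hymem : y ∈ specialLinear (Fin 5) F := mul_mem (inv_mem (R.det_el _ _ _)) ho
  obtain ⟨c, hc⟩ := R.scalar_eq_el hymem (R.scalar_of_commute (key hX hyX) (key hA hyA))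
  rw [show o = R.el 0 l (-k) * y by rw [hy, mul_inv_cancel_left], hc]
  exact mul_mem (R.el_mem _ _ _) (R.el_mem _ _ _)

end Root5

variable [Finite F]

/-- An overgroup with the two local facts normalises `5^{1+2}`. -/
theorem le_normalizer_of_local (R : URoot5 F q) {M : Subgroup (GL (Fin 5) F)} (hM : R.Contains M)
    (he : ∀ u ∈ M, Commute u gJ → u * u = 1 → u = 1 ∨ u = gJ)
    (hsc : ∀ N : Subgroup (GL (Fin 5) F), N ≤ M ⊓ CJ F →
      (∀ g ∈ M, g ∈ CJ F → ∀ n ∈ N, g * n * g⁻¹ ∈ N) → Odd (Nat.card N) →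
      ∀ n ∈ N, ∃ c : F, (n : Matrix (Fin 5) (Fin 5) F) = c • 1) :
    M ≤ Subgroup.normalizer (R.Rs : Set (GL (Fin 5) F)) := by
  classical
  haveI : Finite (GL (Fin 5) F) := inferInstance
  have hne : (gJ : GL (Fin 5) F) ≠ 1 := by
    intro h
    have := congrArg (fun x : GL (Fin 5) F => (x : Matrix (Fin 5) (Fin 5) F) 1 1) h
    simp [val_gJ] at this
    exact absurd this (by decide)
  set j : M := ⟨gJ, hM.hJ⟩ with hj
  have hord : orderOf j = 2 := by
    haveI : Fact (Nat.Prime 2) := ⟨Nat.prime_two⟩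
    refine orderOf_eq_prime ?_ ?_
    · exact Subtype.ext (by simp [hj, pow_two, gJ_sq])
    · exact fun h => hne (congrArg Subtype.val h)
  have hiso : Cfsg.Agent.Invol.IsIsolatedInv j := by
    refine ⟨hord, fun g hg => ?_⟩
    have hsq : (g * j * g⁻¹) * (g * j * g⁻¹) = 1 := by
      rw [show (g * j * g⁻¹) * (g * j * g⁻¹) = g * (j * j) * g⁻¹ by group,
        show j * j = 1 from Subtype.ext gJ_sq, mul_one, mul_inv_cancel]
    rcases he _ (g * j * g⁻¹).2 (congrArg Subtype.val hg.eq) (congrArg Subtype.val hsq) with h | h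
    · exfalso
      have h' : g * j * g⁻¹ = 1 := Subtype.ext h
      exact hne (congrArg Subtype.val (show j = 1 by simpa using h'))
    · exact Subtype.ext h
  set O : Subgroup (GL (Fin 5) F) := (pPrimeCore 2 M).map M.subtype with hO
  have hOM : O ≤ M := Subgroup.map_subtype_le _
  have hOodd : Odd (Nat.card O) := by
    rw [hO, Subgroup.card_map_of_injective M.subtype_injective]
    exact Nat.coprime_two_right.1 Cores.pPrimeCore_coprime
  have hOn : ∀ g ∈ M, ∀ o ∈ O, g * o * g⁻¹ ∈ O := by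
    rintro g hg _ ⟨o, ho, rfl⟩
    exact ⟨⟨g, hg⟩ * o * ⟨g, hg⟩⁻¹, Subgroup.Normal.conj_mem inferInstance o ho _, rfl⟩
  have hcomm : ∀ g ∈ M, gJ * g * gJ⁻¹ * g⁻¹ ∈ O := fun g hg =>
    ⟨⁅j, (⟨g, hg⟩ : M)⁆, Cfsg.Agent.Invol.zStar_theorem M j hiso _, rfl⟩
  have hXO : R.gX ∈ O := by
    have h := hcomm _ hM.hX
    rw [R.gX_eq, R.gJ_comm_el] at h
    convert mul_mem h h using 1
    rw [R.el_mul, R.gX_eq]; rfl
  have hAO : gA ∈ O := by
    have h := hcomm _ hM.hA
    rw [R.gA_eq, R.gJ_comm_el] at h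
    convert mul_mem h h using 1
    rw [R.el_mul, R.gA_eq]; rfl
  have hscalar : ∀ o ∈ O, Commute o gJ → ∃ k, o = R.el k 0 0 := by
    intro o ho hoJ
    obtain ⟨c, hc'⟩ := hsc (O ⊓ CJ F) (inf_le_inf_right _ hOM)
      (fun g hg hgJ n hn => ⟨hOn g hg n hn.1, (CJ F).mul_mem ((CJ F).mul_mem hgJ hn.2) ((CJ F).inv_mem hgJ)⟩)
      (hOodd.of_dvd_nat (Subgroup.card_dvd_of_le inf_le_left)) o ⟨ho, mem_CJ.2 hoJ⟩
    exact R.scalar_eq_el ((hM.le (hOM ho)).2) hc'
  let φ : O →* O := MonoidHom.mk' (fun o => (⟨(gJ : GL (Fin 5) F) * (o : GL (Fin 5) F) * gJ⁻¹, hOn gJ hM.hJ o o.2⟩ : O))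
    fun a b => Subtype.ext (by simp only [Subgroup.coe_mul]; group)
  have hφ : ∀ o : O, (φ o : GL (Fin 5) F) = gJ * (o : GL (Fin 5) F) * gJ⁻¹ := fun o => rfl
  have hφ2 : ∀ o, φ (φ o) = o := fun o => Subtype.ext (by
    rw [hφ, hφ, inv_eq_of_mul_eq_one_right gJ_sq,
      show (gJ : GL (Fin 5) F) * (gJ * (o : GL (Fin 5) F) * gJ) * gJ =
        (gJ * gJ) * (o : GL (Fin 5) F) * (gJ * gJ) by simp only [mul_assoc],
      gJ_sq, one_mul, mul_one])
  set C : Subgroup O := φ.eqLocus (MonoidHom.id O) with hC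
  have hCel : ∀ o ∈ C, ∃ k, (o : GL (Fin 5) F) = R.el k 0 0 := fun o ho => by
    refine hscalar o o.2 ?_
    have h : (gJ : GL (Fin 5) F) * (o : GL (Fin 5) F) * gJ⁻¹ = (o : GL (Fin 5) F) := by
      rw [← hφ o, show φ o = o from ho]
    exact (mul_inv_eq_iff_eq_mul.1 h).symm
  have hcent : ∀ (k : Fin 5) (g : GL (Fin 5) F), g * R.el k 0 0 = R.el k 0 0 * g := fun k g =>
    Units.ext (by simp [R.val_el_central])
  haveI hCn : C.Normal := ⟨fun o ho g => by
    obtain ⟨k, hk⟩ := hCel o ho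
    have : g * o * g⁻¹ = o := Subtype.ext (by
      rw [Subgroup.coe_mul, Subgroup.coe_mul, hk, hcent, Subgroup.coe_inv, mul_inv_cancel_right])
    rwa [this]⟩
  let ψ : O ⧸ C →* O ⧸ C := QuotientGroup.map C C φ fun o ho => by
    show φ (φ o) = φ o
    rw [show φ o = o from ho]; exact ho
  have hfix : MonoidHom.FixedPointFree ψ := by
    intro x hx
    obtain ⟨o, rfl⟩ := QuotientGroup.mk_surjective x
    refine (QuotientGroup.eq_one_iff o).2 ?_
    have hc1 : o⁻¹ * φ o ∈ C := QuotientGroup.eq.1 (hx.symm)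
    have hc2 : φ (o⁻¹ * φ o) = o⁻¹ * φ o := hc1
    rw [map_mul, map_inv, hφ2] at hc2
    have hsq : (o⁻¹ * φ o) ^ 2 = 1 := by
      rw [pow_two]; nth_rewrite 1 [← hc2]; group
    have hcop : (Nat.card O).Coprime 2 := Nat.coprime_two_right.2 hOodd
    have h1 : o⁻¹ * φ o = 1 := by
      have h3 := Nat.dvd_gcd (orderOf_dvd_natCard (o⁻¹ * φ o)) (orderOf_dvd_of_pow_eq_one hsq)
      rwa [hcop.gcd_eq_one, Nat.dvd_one, orderOf_eq_one_iff] at h3
    exact (inv_mul_eq_one.1 h1).symm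
  have hinv : Function.Involutive ψ := by
    intro x
    obtain ⟨o, rfl⟩ := QuotientGroup.mk_surjective x
    exact congrArg _ (hφ2 o)
  have hab : ∀ o ∈ O, ∀ g ∈ O, ∃ k, o * g = R.el k 0 0 * (g * o) := by
    intro o ho g hg
    have h := (hfix.commute_all_of_involutive hinv ((⟨g, hg⟩ : O) : O ⧸ C) ((⟨o, ho⟩ : O) : O ⧸ C)).eq
    rw [← QuotientGroup.mk_mul, ← QuotientGroup.mk_mul, QuotientGroup.eq] at h
    obtain ⟨k, hk⟩ := hCel _ h
    refine ⟨k, ?_⟩
    rw [Subgroup.coe_mul, Subgroup.coe_inv, inv_mul_eq_iff_eq_mul] at hk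
    simp only [Subgroup.coe_mul] at hk
    rw [hk, hcent]
  have hORs : O = R.Rs := by
    refine le_antisymm (fun o ho => ?_) (R.Rs_le hXO hAO)
    obtain ⟨k, hk⟩ := hab o ho _ hXO
    obtain ⟨l, hl⟩ := hab o ho _ hAO
    exact R.mem_Rs_of_comm ((hM.le (hOM ho)).2) hk hl
  intro g hg
  rw [Subgroup.mem_normalizer_iff]
  intro x
  rw [← hORs]
  refine ⟨hOn g hg x, fun h => ?_⟩
  have h' := hOn g⁻¹ (inv_mem hg) _ h
  rwa [show g⁻¹ * (g * x * g⁻¹) * g⁻¹⁻¹ = x by group] at h'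

end Cfsg.Agent.SUFive.Symp
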