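import Mathlib

/-!
Bit-level arithmetic for the field with sixteen elements and the finite checks on the centraliser
of `J` in `SU₅(4)`.
-/

set_option autoImplicit false
set_option maxRecDepth 100000

namespace Cfsg.Agent.SUFive.Symp.Four

open scoped Fin.CommRing Fin.NatCast

/-- The multiplication table, four bits an entry. -/
def tbl : ℕ := 137346403761043134571121834848766465829948300048558713041616785913762687233406651185233503131011454520325872740682304586423746615489368039972696253063306239775127973507606439631189803002905990565192193086780360195545395311595062214753392698316152450508391649682682916087492734993093562278860049266092120473600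

/-- Sum. -/
def aN (a b : ℕ) : ℕ := (a % 16) ^^^ (b % 16)
/-- Product. -/
def mN (a b : ℕ) : ℕ := (tbl >>> (4 * (16 * (a % 16) + b % 16))) % 16
/-- Conjugate. -/
def cN (a : ℕ) : ℕ := mN (mN a a) (mN a a)

/-- Powers of the fifth root of unity. -/
def wN : Fin 5 → ℕ := ![1, 4, 9, 10, 6]

/-- Matrices. -/
abbrev MN : Type := Fin 5 → Fin 5 → ℕ
/-- Two by two matrices. -/
abbrev TN : Type := Fin 2 → Fin 2 → ℕ

def mulN (A B : MN) : MN := fun i j =>
  aN (aN (aN (aN (mN (A i 0) (B 0 j)) (mN (A i 1) (B 1 j))) (mN (A i 2) (B 2 j)))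
    (mN (A i 3) (B 3 j))) (mN (A i 4) (B 4 j))
def stN (A : MN) : MN := fun i j => cN (A j i)
def oneN : MN := fun i j => if i = j then 1 else 0
def dgN (f : Fin 5 → Fin 5) : MN := fun i j => if i = j then wN (f i) else 0
def sN : MN := fun i j => if i = 2 * j then 1 else 0
def qN : MN := fun i j => wN ((i - j) * (i - j))
def jN : MN := fun i j => if i = -j then 1 else 0
def zN (x z y : ℕ) : MN :=
  ![![1, 0, 0, 0, 0], ![0, aN 1 x, y, y, x], ![0, cN y, aN 1 z, z, cN y],
    ![0, cN y, z, aN 1 z, cN y], ![0, x, y, y, aN 1 x]]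
def scN (l : Fin 5) (A : MN) : MN := fun i j => mN (wN l) (A i j)

def l5 : List (Fin 5) := [0, 1, 2, 3, 4]
def eqN (A B : MN) : Bool := l5.all fun i => l5.all fun j => A i j % 16 == B i j % 16

/-- A conjugate of a diagonal radical element by a power of `X`. -/
def lcN (k : Fin 5) (a : ℕ) : MN := fun i j => mN (mN (wN (k * i)) (zN a a 0 i j)) (wN (-(k * j)))

def p01 : MN := ![![1, 0, 0, 0, 0], ![0, 12, 0, 0, 8], ![0, 0, 11, 7, 0], ![0, 0, 5, 8, 0], ![0, 11, 0, 0, 13]]
def p02 : MN := ![![1, 0, 0, 0, 0], ![0, 13, 0, 0, 14], ![0, 0, 6, 0, 0], ![0, 0, 0, 4, 0], ![0, 15, 0, 0, 12]]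
def p03 : MN := ![![1, 0, 0, 0, 0], ![0, 8, 0, 0, 3], ![0, 0, 0, 4, 0], ![0, 0, 6, 0, 0], ![0, 3, 0, 0, 11]]
def p04 : MN := ![![1, 0, 0, 0, 0], ![0, 7, 0, 0, 8], ![0, 0, 13, 8, 0], ![0, 0, 11, 12, 0], ![0, 11, 0, 0, 5]]
def p05 : MN := ![![1, 0, 0, 0, 0], ![0, 13, 0, 0, 2], ![0, 0, 2, 7, 0], ![0, 0, 5, 2, 0], ![0, 2, 0, 0, 12]]
def p11 : MN := ![![1, 0, 0, 0, 0], ![0, 3, 0, 0, 14], ![0, 0, 3, 11, 0], ![0, 0, 8, 3, 0], ![0, 15, 0, 0, 3]]
def p12 : MN := ![![1, 0, 0, 0, 0], ![0, 7, 0, 0, 8], ![0, 0, 11, 5, 0], ![0, 0, 7, 8, 0], ![0, 11, 0, 0, 5]]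
def p13 : MN := ![![1, 0, 0, 0, 0], ![0, 8, 0, 0, 3], ![0, 0, 5, 14, 0], ![0, 0, 15, 7, 0], ![0, 3, 0, 0, 11]]
def p14 : MN := ![![1, 0, 0, 0, 0], ![0, 4, 0, 0, 0], ![0, 0, 12, 15, 0], ![0, 0, 14, 13, 0], ![0, 0, 0, 0, 6]]
def p15 : MN := ![![1, 0, 0, 0, 0], ![0, 8, 0, 0, 5], ![0, 0, 2, 7, 0], ![0, 0, 5, 2, 0], ![0, 7, 0, 0, 11]]

theorem step01 : eqN (mulN (lcN 0 3) (lcN 1 3)) p01 = true := by decide +kernel
theorem step02 : eqN (mulN p01 (lcN 2 3)) p02 = true := by decide +kernel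
theorem step03 : eqN (mulN p02 (lcN 3 1)) p03 = true := by decide +kernel
theorem step04 : eqN (mulN p03 (lcN 3 3)) p04 = true := by decide +kernel
theorem step05 : eqN (mulN p04 (lcN 0 3)) p05 = true := by decide +kernel
theorem step06 : eqN (mulN p05 (lcN 3 3)) (zN 1 0 0) = true := by decide +kernel
theorem step11 : eqN (mulN (lcN 1 1) (lcN 1 3)) p11 = true := by decide +kernel
theorem step12 : eqN (mulN p11 (lcN 4 3)) p12 = true := by decide +kernel
theorem step13 : eqN (mulN p12 (lcN 3 3)) p13 = true := by decide +kernel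
theorem step14 : eqN (mulN p13 (lcN 2 3)) p14 = true := by decide +kernel
theorem step15 : eqN (mulN p14 (lcN 1 3)) p15 = true := by decide +kernel
theorem step16 : eqN (mulN p15 (lcN 3 3)) (zN 3 0 0) = true := by decide +kernel

def l4 : List ℕ := [0, 1, 2, 3]
def l16 : List ℕ := List.range 16

theorem conjT_ok : (l4.all fun x => l4.all fun z => l16.all fun y =>
    eqN (mulN (mulN (dgN fun i => i * i) (zN x z y)) (stN (dgN fun i => i * i)))
      (zN x z (mN (wN 2) y))) = true := by decide +kernel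

theorem conjS_ok : (l4.all fun a => eqN (mulN (mulN sN (zN a 0 0)) (stN sN)) (zN 0 a 0)) = true := by
  decide +kernel

/-- The coordinates of a conjugate by `Q`. -/
def qX (x z y : ℕ) : ℕ := mulN (mulN qN (zN x z y)) (stN qN) 1 4
def qZ (x z y : ℕ) : ℕ := mulN (mulN qN (zN x z y)) (stN qN) 2 3
def qY (x z y : ℕ) : ℕ := mulN (mulN qN (zN x z y)) (stN qN) 1 2

theorem pure_ok : (eqN (mulN (mulN qN (zN 0 0 1)) (stN qN)) (zN 3 3 (qY 0 0 1))) = true := by
  decide +kernel

theorem diag_ok : (l4.all fun x => l4.all fun z => x == z ||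
    (eqN (mulN (mulN qN (zN x z 0)) (stN qN)) (zN (qX x z 0) (qZ x z 0) (qY x z 0)) &&
      (cN (qX x z 0) == qX x z 0) && (cN (qZ x z 0) == qZ x z 0) && !(qY x z 0 == 0))) = true := by
  decide +kernel

/-- The middle factors. -/
def midN : Fin 4 → MN := ![oneN, sN, qN, mulN sN qN]

/-- The words in the centraliser of `J`. -/
def wordN (k j : Fin 5) (t : Fin 4) (i : Fin 5) : MN := fun r c =>
  mN (mN (wN (k + j * (r * r))) (midN t r c)) (wN (i * (c * c)))

/-- The image on `im (J - 1)`. -/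
def imN (A : MN) : TN :=
  ![![aN (A 1 1) (A 1 4), aN (A 1 2) (A 1 3)], ![aN (A 2 1) (A 2 4), aN (A 2 2) (A 2 3)]]

def mul2 (A B : TN) : TN := fun i j => aN (mN (A i 0) (B 0 j)) (mN (A i 1) (B 1 j))
def st2 (A : TN) : TN := fun i j => cN (A j i)
def one2 : TN := fun i j => if i = j then 1 else 0
def l2 : List (Fin 2) := [0, 1]
def eq2 (A B : TN) : Bool := l2.all fun i => l2.all fun j => A i j % 16 == B i j % 16
def lt4 : List (Fin 4) := [0, 1, 2, 3]
def isScal (A : TN) : Bool := A 0 1 % 16 == 0 && A 1 0 % 16 == 0 && A 0 0 % 16 == A 1 1 % 16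

theorem levi_ok : (l16.all fun a => l16.all fun b => !(aN (mN a (cN a)) (mN b (cN b)) == 1) ||
    l16.all fun c => l16.all fun d => !(aN (mN c (cN c)) (mN d (cN d)) == 1 &&
      aN (mN a (cN c)) (mN b (cN d)) == 0) ||
    lt4.any fun t => l5.any fun i =>
      (mul2 (imN (wordN 0 0 t i)) ![![a, b], ![c, d]] 0 1 == 0) &&
      l5.any fun k => l5.any fun j => eq2 (mul2 (imN (wordN k j t i)) ![![a, b], ![c, d]]) one2)
    = true := by decide +kernel

theorem invol_ok : (l5.all fun k => l5.all fun j => lt4.all fun t => l5.all fun i =>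
    !(eqN (mulN (wordN k j t i) (wordN k j t i)) oneN) ||
      eqN (wordN k j t i) oneN || eqN (wordN k j t i) jN) = true := by decide +kernel

/-- The image of `g * (b * g^2 * b⁻¹)`. -/
def prodN (A B : TN) : TN := mul2 A (mul2 B (mul2 (mul2 A A) (st2 B)))

theorem comm_ok : (l5.all fun k => l5.all fun j => lt4.all fun t => l5.all fun i =>
    (isScal (imN (wordN k j t i)) && l5.any fun l =>
      eqN (wordN k j t i) (scN l oneN) || eqN (wordN k j t i) (scN l jN)) ||
    lt4.any fun t' => l5.any fun j' => l5.any fun i' =>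
      let C := prodN (imN (wordN k j t i)) (imN (wordN 0 j' t' i'))
      !(isScal C) && isScal (mul2 C C)) = true := by decide +kernel

end Cfsg.Agent.SUFive.Symp.Four
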